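import Groth.Agent.Obs28.Unip.Main
import Mathlib.RingTheory.SimpleModule.Basic
import Mathlib.LinearAlgebra.Trace
import Mathlib.RingTheory.Nilpotent.Lemmas

/-! Groups without subtori act unipotently and fix a vector. -/

universe u

open CategoryTheory MonoidalCategory CartesianMonoidalCategory MonObj GrpObj AlgebraicGeometry
open scoped TensorProduct

namespace Groth.Agent.Obs28.Unip

open GrpSchLib.Kunneth

set_option linter.unusedSectionVars false
set_option linter.style.haveILetI false

/-- Kolchin: a monoid of unipotent operators has a common fixed vector. -/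
theorem exists_fixed_of_unipotent {k : Type*} [Field k] [IsAlgClosed k] {V : Type*} [AddCommGroup V] [Module k V]
    [Module.Finite k V] [Nontrivial V] {Γ : Type*} [Monoid Γ] (ρ : Γ →* Module.End k V)
    (hu : ∀ g, IsNilpotent (ρ g - 1)) : ∃ v : V, v ≠ 0 ∧ ∀ g, ρ g v = v := by
  classical
  have hex : ∃ d, ∃ W : Submodule k V, W ≠ ⊥ ∧ (∀ g, ∀ x ∈ W, ρ g x ∈ W) ∧ Module.finrank k W = d :=
    ⟨_, ⊤, top_ne_bot, fun _ _ _ => trivial, rfl⟩
  obtain ⟨W, hW0, hWst, hWd⟩ := Nat.find_spec hex
  have hmin : ∀ W' : Submodule k V, W' ≤ W → W' ≠ ⊥ → (∀ g, ∀ x ∈ W', ρ g x ∈ W') → W' = W := by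
    intro W' hle h0 hst
    refine Submodule.eq_of_le_of_finrank_le hle ?_
    rw [hWd]
    exact Nat.find_min' hex ⟨W', h0, hst, rfl⟩
  let σ : Γ →* Module.End k W :=
    { toFun := fun g => (ρ g ∘ₗ W.subtype).codRestrict W fun x => hWst g x x.2
      map_one' := LinearMap.ext fun x => Subtype.ext (by simp)
      map_mul' := fun g h => LinearMap.ext fun x => Subtype.ext (by show ρ (g * h) (x : V) = ρ g (ρ h (x : V)); rw [map_mul]; rfl) }
  haveI : Nontrivial W := Submodule.nontrivial_iff_ne_bot.mpr hW0
  have hσu : ∀ g, IsNilpotent (σ g - 1) := by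
    intro g
    obtain ⟨N, hN⟩ := hu g
    refine ⟨N, LinearMap.ext fun x => Subtype.ext ?_⟩
    have e : ∀ (M : ℕ) (y : W), ((((σ g - 1) ^ M) y : W) : V) = ((ρ g - 1) ^ M) (y : V) := by
      intro M
      induction M with
      | zero => simp
      | succ M ih =>
        intro y
        rw [pow_succ, pow_succ, Module.End.mul_apply, Module.End.mul_apply, ih]
        congr 1
    rw [e, hN]
    rfl
  let A := Algebra.adjoin k (Set.range σ)
  haveI : IsSimpleModule A W := by
    rw [isSimpleModule_iff]
    refine { eq_bot_or_eq_top := fun N => ?_ }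
    by_cases h : N.restrictScalars k = ⊥
    · exact Or.inl ((Submodule.restrictScalars_eq_bot_iff k A W).mp h)
    · refine Or.inr ((Submodule.restrictScalars_eq_top_iff k A W).mp ?_ : N = ⊤)
      apply Submodule.map_injective_of_injective W.subtype_injective
      rw [Submodule.map_top, Submodule.range_subtype]
      refine hmin _ ((Submodule.map_subtype_le _ _)) (fun h' => h ?_) ?_
      · exact Submodule.map_injective_of_injective W.subtype_injective (h'.trans (Submodule.map_bot _).symm)
      · rintro g _ ⟨x, hx, rfl⟩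
        exact ⟨(⟨σ g, Algebra.subset_adjoin ⟨g, rfl⟩⟩ : A) • x, N.smul_mem _ hx, rfl⟩
  have hdens : ∀ f : Module.End k W, ∃ a : A, ∀ x, f x = (a : Module.End k W) x := by
    intro f
    have hscal : ∀ e : Module.End A W, ∃ c : k, ∀ x, e x = c • x := by
      intro e
      obtain ⟨c, hc⟩ := Module.End.exists_eigenvalue (e.restrictScalars k)
      obtain ⟨x, hx, hx0⟩ := hc.exists_hasEigenvector
      rw [Module.End.mem_eigenspace_iff] at hx
      refine ⟨c, fun y => ?_⟩
      let e' : Module.End A W :=
        { toFun := fun y => e y - c • y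
          map_add' := fun a b => by rw [map_add, smul_add]; abel
          map_smul' := fun a b => by rw [map_smul, RingHom.id_apply, smul_sub, smul_comm] }
      rcases LinearMap.bijective_or_eq_zero (R := A) (M := W) (N := W) e' with h | h
      · exact absurd (h.1 (show e' x = e' 0 by rw [map_zero]; exact sub_eq_zero.mpr hx)) hx0
      · exact sub_eq_zero.mp (LinearMap.congr_fun h y)
    let f' : Module.End (Module.End A W) W :=
      { toFun := f
        map_add' := f.map_add
        map_smul' := fun e y => by
          obtain ⟨c, hc⟩ := hscal e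
          rw [RingHom.id_apply]
          show f (e y) = e (f y)
          rw [hc, hc, map_smul] }
    obtain ⟨s, hs⟩ := Module.Finite.fg_top (R := k) (M := W)
    obtain ⟨a, ha⟩ := jacobson_density (R := A) (M := W) f' s
    refine ⟨a, fun x => LinearMap.congr_fun (LinearMap.ext_on hs (g := (a : Module.End k W)) fun y hy => ?_) x⟩
    exact ha y hy
  have htr : ∀ g h, LinearMap.trace k W (σ g * σ h) = LinearMap.trace k W (σ h) := by
    have h1 : ∀ g, LinearMap.trace k W (σ g) = LinearMap.trace k W 1 := fun g => by
      have := (LinearMap.isNilpotent_trace_of_isNilpotent (hσu g)).eq_zero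
      rwa [map_sub, sub_eq_zero] at this
    intro g h
    rw [← map_mul, h1, h1 h]
  have hzero : ∀ g (a : A), LinearMap.trace k W ((σ g - 1) * (a : Module.End k W)) = 0 := by
    intro g a
    have ha : (a : Module.End k W) ∈ Submodule.span k (Set.range σ : Set (Module.End k W)) := by
      have h2 : (a : Module.End k W) ∈ Subalgebra.toSubmodule A := a.2
      rwa [Algebra.adjoin_eq_span, ← MonoidHom.coe_mrange, Submonoid.closure_eq] at h2
    revert ha
    generalize (a : Module.End k W) = z
    intro ha
    induction ha using Submodule.span_induction with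
    | mem x hx =>
      obtain ⟨h, rfl⟩ := hx
      rw [sub_mul, _root_.one_mul, map_sub, htr, sub_self]
    | zero => simp
    | add x y _ _ hx hy => rw [mul_add, map_add, hx, hy, add_zero]
    | smul c x _ hx => rw [mul_smul_comm, map_smul, hx, smul_zero]
  obtain ⟨w, hw⟩ := exists_ne (0 : W)
  refine ⟨w, fun h => hw (Subtype.ext h), fun g => ?_⟩
  have : (σ g - 1) w = 0 := by
    refine (Module.forall_dual_apply_eq_zero_iff k _).mp fun φ => ?_
    obtain ⟨a, ha⟩ := hdens (LinearMap.smulRight φ w)
    have h2 := hzero g a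
    rw [show (σ g - 1) * (a : Module.End k W) = LinearMap.smulRight φ ((σ g - 1) w) from LinearMap.ext fun x => by
      rw [Module.End.mul_apply, ← ha, LinearMap.smulRight_apply, LinearMap.smulRight_apply, map_smul],
      LinearMap.trace_smulRight] at h2
    exact h2
  exact congrArg Subtype.val (sub_eq_zero.mp this)

variable {k : Type u} [Field k] [IsAlgClosed k] {G : Over (Spec (CommRingCat.of k))} [GrpObj G]
  [IsAffine G.left] [Smooth G.hom]

/-- The direct sum of two representations. -/
noncomputable def prodPi {M N : Type u} [AddCommGroup M] [Module k M] [AddCommGroup N] [Module k N]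
    (π : Rat G →* (M ≃ₗ[k] M)) (π' : Rat G →* (N ≃ₗ[k] N)) : Rat G →* ((M × N) ≃ₗ[k] (M × N)) where
  toFun g := (π g).prodCongr (π' g)
  map_one' := LinearEquiv.ext fun x => by simp
  map_mul' g h := LinearEquiv.ext fun x => by simp

theorem prodPi_regular {M N : Type u} [AddCommGroup M] [Module k M] [AddCommGroup N] [Module k N]
    {π : Rat G →* (M ≃ₗ[k] M)} {π' : Rat G →* (N ≃ₗ[k] N)} (hπ : IsRegular π) (hπ' : IsRegular π') :
    IsRegular (prodPi π π') := by
  intro x
  obtain ⟨z, hz⟩ := hπ x.1
  obtain ⟨w, hw⟩ := hπ' x.2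
  refine ⟨(LinearMap.inl k M N).lTensor (Fn G) z + (LinearMap.inr k M N).lTensor (Fn G) w, fun g => ?_⟩
  rw [map_add, evl_lTensor, evl_lTensor, ← hz g, ← hw g]
  show (π g x.1, π' g x.2) = _
  simp

variable [ConnectedSpace G.left]

/-- A smooth connected affine group without subtori acts unipotently. -/
theorem isNilpotent_rep_sub_one (hG : Red.HasNoSubtorus k G) {V : Type u} [AddCommGroup V] [Module k V]
    [Module.Finite k V] {π : Rat G →* (V ≃ₗ[k] V)} (hπ : IsRegular π) (g : Rat G) :
    IsNilpotent ((π g).toLinearMap - 1) := by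
  classical
  haveI := finiteType_fn G
  haveI := isReduced_grp G
  obtain ⟨s, hs⟩ := (Algebra.FiniteType.out : (⊤ : Subalgebra k (Fn G)).FG)
  let W := orbitSpan (rPi (G := G)) (s : Set (Fn G))
  haveI : Module.Finite k W := finite_orbitSpan rPi_regular s.finite_toSet
  let πW := subPi (rPi (G := G)) W (orbitSpan_stable _ _)
  have hW : IsRegular πW := subPi_regular _ _ _ rPi_regular
  let b := Module.finBasis k (V × W)
  have hX := prodPi_regular hπ hW
  by_contra hne
  obtain ⟨θ, hθ, hmono⟩ := exists_subtorus hX b (by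
    rw [eq_top_iff, ← hs, Algebra.adjoin_le_iff]
    intro f hf
    let φ : V × W →ₗ[k] k := (pfn (1 : Rat G)).toLinearMap ∘ₗ W.subtype ∘ₗ LinearMap.snd k V W
    let v : V × W := (0, ⟨f, subset_orbitSpan _ _ hf⟩)
    have e : f = ∑ i, ∑ j, (φ (b i) * b.coord j v) • fnMat hX b i j := by
      refine ext_pts fun x => ?_
      simp only [map_sum, map_smul, smul_eq_mul, fnMat, Matrix.of_apply, pfn_coeff]
      have hx : pfn x f = φ (prodPi π πW x v) := by
        show pfn x f = pfn 1 (rMap x f)
        rw [pfn_rMap', _root_.one_mul]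
      rw [hx]
      conv_lhs => rw [← b.sum_repr v]
      simp only [map_sum, map_smul, smul_eq_mul]
      rw [Finset.sum_comm]
      refine Finset.sum_congr rfl fun j _ => ?_
      conv_lhs => rw [← b.sum_repr (prodPi π πW x (b j))]
      simp only [map_sum, map_smul, smul_eq_mul, Finset.mul_sum, Module.Basis.coord_apply]
      exact Finset.sum_congr rfl fun i _ => by ring
    rw [e]
    exact sum_mem fun i _ => sum_mem fun j _ => Subalgebra.smul_mem _ (Algebra.subset_adjoin (show fnMat hX b i j ∈ Set.range (fun p : _ × _ => fnMat hX b p.1 p.2) from ⟨(i, j), rfl⟩)) _) g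
    (fun hn => hne (by
      obtain ⟨N, hN⟩ := hn
      refine ⟨N, LinearMap.ext fun x => ?_⟩
      have e : ∀ (M : ℕ) (y : V), ((((prodPi π πW g).toLinearMap - 1) ^ M) (y, 0)) =
          ((((π g).toLinearMap - 1) ^ M) y, 0) := by
        intro M
        induction M with
        | zero => simp
        | succ M ih =>
          intro y
          rw [pow_succ, pow_succ, Module.End.mul_apply, Module.End.mul_apply, ← ih]
          congr 1
          simp [prodPi]
      have := e N x
      rw [hN] at this
      exact (congrArg Prod.fst this).symm))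
  haveI := hθ
  haveI := hmono
  exact not_isTrivialGrp_GmK k (hG (GmK k) θ (isTorus_GmK k))

/-- A smooth connected affine group without subtori fixes a nonzero vector in every representation. -/
theorem exists_fixed (hG : Red.HasNoSubtorus k G) {V : Type u} [AddCommGroup V] [Module k V] [Nontrivial V]
    {π : Rat G →* (V ≃ₗ[k] V)} (hπ : IsRegular π) : ∃ v : V, v ≠ 0 ∧ ∀ g, π g v = v := by
  obtain ⟨x, hx⟩ := exists_ne (0 : V)
  let W := orbitSpan π {x}
  haveI : Module.Finite k W := finite_orbitSpan hπ (Set.finite_singleton x)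
  haveI : Nontrivial W := ⟨⟨x, subset_orbitSpan _ _ rfl⟩, 0, fun h => hx (congrArg Subtype.val h)⟩
  let ρ : Rat G →* Module.End k W :=
    { toFun := fun g => (subPi π W (orbitSpan_stable _ _) g).toLinearMap
      map_one' := by rw [map_one]; rfl
      map_mul' := fun g h => by rw [map_mul]; rfl }
  obtain ⟨v, hv, hfix⟩ := exists_fixed_of_unipotent ρ fun g =>
    isNilpotent_rep_sub_one hG (subPi_regular π W (orbitSpan_stable _ _) hπ) g
  exact ⟨v, fun h => hv (Subtype.ext h), fun g => congrArg Subtype.val (hfix g)⟩

end Groth.Agent.Obs28.Unip
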