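import Groth.Agent.Obs28.Criterion
import Groth.Agent.GrpSchLib.LineGroups
import Groth.Agent.GrpSchLib.AffineHopf
import Groth.Agent.GrpSchLib.MultTypeBC
import Groth.Agent.S5427
import Mathlib.RingTheory.RingHom.Smooth
import Mathlib.RingTheory.Smooth.Basic
import Mathlib.Algebra.Polynomial.Laurent

/-! The multiplicative group over an algebraically closed field. -/

universe u

open CategoryTheory MonoidalCategory CartesianMonoidalCategory MonObj GrpObj AlgebraicGeometry
open scoped TensorProduct LaurentPolynomial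

namespace Groth.Agent.Obs28.Unip

open GrpSchLib.Kunneth

set_option linter.unusedSectionVars false
set_option linter.style.haveILetI false

variable (k : Type u) [Field k]

/-- The multiplicative group. -/
noncomputable abbrev GmK : Over (Spec (CommRingCat.of k)) := Red.Gm (Spec (CommRingCat.of k))

theorem smooth_laurent : Algebra.Smooth k k[T;T⁻¹] := by
  haveI : Algebra.Smooth k (Polynomial k) :=
    { formallySmooth := Algebra.FormallySmooth.of_equiv (MvPolynomial.uniqueAlgEquiv k PUnit.{1})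
      finitePresentation := Algebra.FinitePresentation.equiv (MvPolynomial.uniqueAlgEquiv k PUnit.{1}) }
  haveI : Algebra.Smooth (Polynomial k) k[T;T⁻¹] :=
    Algebra.Smooth.of_isLocalization_Away (Polynomial.X : Polynomial k)
  haveI : IsScalarTower k (Polynomial k) k[T;T⁻¹] := IsScalarTower.of_algebraMap_eq fun r => by
    simp [LaurentPolynomial.algebraMap_eq_toLaurent]
  exact Algebra.Smooth.comp k (Polynomial k) k[T;T⁻¹]

theorem exists_coord : ∃ _ : IsAffine (GmK k).left, Smooth (GmK k).hom ∧ Nonempty (k[T;T⁻¹] ≃ₐ[k] Fn (GmK k)) := by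
  obtain ⟨a⟩ := GrpSchLib.AffineHopf.nonempty_DS_iso k ℤ
  let j : GrpSchLib.AffineHopf.sp k (MonoidAlgebra k (Multiplicative ℤ)) ≅ GmK k := (Grp.forget _).mapIso a
  haveI : IsAffine (GmK k).left :=
    @IsAffine.of_isIso _ _ ((Over.forget _).mapIso j).inv (Iso.isIso_inv _) (isAffine_Spec _)
  let e := AddMonoidAlgebra.toMultiplicativeAlgEquiv k k ℤ
  let φ : k[T;T⁻¹] ≃ₐ[k] Fn (GmK k) :=
    (e.trans (GrpSchLib.LineGroups.spEquiv (k := k) (MonoidAlgebra k (Multiplicative ℤ)))).trans
      (GrpSchLib.LineGroups.fnEquiv j.symm)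
  haveI := smooth_laurent k
  haveI : Algebra.Smooth k (MonoidAlgebra k (Multiplicative ℤ)) := Algebra.Smooth.of_equiv e
  haveI : Smooth (GrpSchLib.AffineHopf.sp k (MonoidAlgebra k (Multiplicative ℤ))).hom := by
    show Smooth (Spec.map (CommRingCat.ofHom (algebraMap k _)))
    rw [HasRingHomProperty.Spec_iff (P := @Smooth)]
    show RingHom.Smooth (algebraMap k (MonoidAlgebra k (Multiplicative ℤ)))
    rw [RingHom.smooth_algebraMap]
    infer_instance
  haveI : IsIso j.inv.left := ((Over.forget _).mapIso j.symm).isIso_hom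
  exact ⟨inferInstance, by rw [← Over.w j.inv]; infer_instance, ⟨φ⟩⟩

variable [IsAlgClosed k]

/-- A coordinate of the multiplicative group. -/
theorem exists_gm_fn : ∃ (_ : IsAffine (GmK k).left) (_ : Smooth (GmK k).hom) (u : Fn (GmK k)),
    (∀ a b : Rat (GmK k), pfn (a * b) u = pfn a u * pfn b u) ∧ pfn (1 : Rat (GmK k)) u = 1 ∧
    (∀ x : kˣ, ∃ p : Rat (GmK k), pfn p u = x) ∧
    (∀ p q : Rat (GmK k), pfn p u = pfn q u → p = q) ∧
    Algebra.adjoin k {u, ev ι[GmK k] u} = ⊤ ∧
    ∃ φ : k[T;T⁻¹] ≃ₐ[k] Fn (GmK k), φ (LaurentPolynomial.T 1) = u := by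
  obtain ⟨_, hsm, ⟨φ⟩⟩ := exists_coord k
  haveI := hsm
  haveI := isReduced_grp (GmK k)
  set c := evPt η[GmK k] (φ (LaurentPolynomial.T 1)) with hc
  have hc0 : c ≠ 0 := (((LaurentPolynomial.isUnit_T (R := k) 1).map φ).map (evPt η[GmK k])).ne_zero
  have h1 := GrpSchLib.LineGroups.mul_coord_Gm (GmK k) φ
  rw [← hc] at h1
  let sc : kˣ → (k[T;T⁻¹] →ₐ[k] k[T;T⁻¹]) := fun d => AddMonoidAlgebra.lift k _ ℤ
    { toFun := fun m => algebraMap k k[T;T⁻¹] ((d ^ Multiplicative.toAdd m : kˣ) : k) *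
        LaurentPolynomial.T (Multiplicative.toAdd m)
      map_one' := by simp
      map_mul' := fun a b => by
        rw [toAdd_mul, zpow_add, Units.val_mul, map_mul, LaurentPolynomial.T_add]
        ring }
  have hsc : ∀ d, sc d (LaurentPolynomial.T 1) = algebraMap k k[T;T⁻¹] (d : k) * LaurentPolynomial.T 1 := fun d => by
    simp only [sc, LaurentPolynomial.T, AddMonoidAlgebra.lift_single, one_smul]
    simp
  let cu : kˣ := Units.mk0 c hc0
  let σ : k[T;T⁻¹] ≃ₐ[k] k[T;T⁻¹] := AlgEquiv.ofAlgHom (sc cu⁻¹) (sc cu)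
    (GrpSchLib.LineGroups.algHom_ext_T (by
      rw [AlgHom.comp_apply, hsc, map_mul, AlgHom.commutes, hsc, ← _root_.mul_assoc, ← map_mul, Units.mul_inv,
        map_one, _root_.one_mul]
      rfl))
    (GrpSchLib.LineGroups.algHom_ext_T (by
      rw [AlgHom.comp_apply, hsc, map_mul, AlgHom.commutes, hsc, ← _root_.mul_assoc, ← map_mul, Units.inv_mul,
        map_one, _root_.one_mul]
      rfl))
  let ψ : k[T;T⁻¹] ≃ₐ[k] Fn (GmK k) := σ.trans φ
  let u := ψ (LaurentPolynomial.T 1)
  have hu : u = c⁻¹ • φ (LaurentPolynomial.T 1) := by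
    show φ (σ (LaurentPolynomial.T 1)) = _
    rw [← map_smul]
    congr 1
    show sc cu⁻¹ _ = _
    rw [hsc, Algebra.smul_def]
    simp [cu]
  have hmul : ∀ a b : Rat (GmK k), pfn (a * b) u = pfn a u * pfn b u := fun a b => by
    have h2 := congrArg (pfn (lift a b)) h1
    rw [← pfn_comp, ← Hom.mul_def, map_smul, map_mul, ← pfn_comp, ← pfn_comp, lift_fst, lift_snd] at h2
    rw [hu, map_smul, map_smul, map_smul, h2]
    simp only [smul_eq_mul]
    ring
  have hone : pfn (1 : Rat (GmK k)) u = 1 := by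
    have h0 : pfn (1 : Rat (GmK k)) u ≠ 0 :=
      (((LaurentPolynomial.isUnit_T (R := k) 1).map ψ).map (pfn _)).ne_zero
    refine mul_left_cancel₀ h0 ?_
    rw [← hmul, _root_.mul_one (pfn (1 : Rat (GmK k)) u)]
    exact congrArg (fun x => pfn x u) (_root_.mul_one (1 : Rat (GmK k)))
  refine ⟨inferInstance, hsm, u, hmul, hone, fun x => ?_, fun p q h => pfn_injective ?_, ?_, ψ, rfl⟩
  · let χ : k[T;T⁻¹] →ₐ[k] k := AddMonoidAlgebra.lift k _ ℤ
      ((Units.coeHom k).comp (zpowersHom kˣ x))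
    refine ⟨ptOf (χ.comp ψ.symm.toAlgHom), ?_⟩
    rw [pfn_ptOf]
    show χ (ψ.symm (ψ _)) = _
    rw [AlgEquiv.symm_apply_apply]
    simp only [χ, LaurentPolynomial.T, AddMonoidAlgebra.lift_single]
    simp
  · refine AlgHom.ext fun f => ?_
    obtain ⟨z, rfl⟩ := ψ.surjective f
    exact DFunLike.congr_fun (GrpSchLib.LineGroups.algHom_ext_T (f := (pfn p).comp ψ.toAlgHom)
      (g := (pfn q).comp ψ.toAlgHom) h) z
  · have hinv : ev ι[GmK k] u = ψ (LaurentPolynomial.T (-1)) := ext_pts fun p => by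
      rw [← pfn_comp, GrpObj.inv_eq_inv, GrpObj.comp_inv, Category.comp_id]
      have e1 : pfn p⁻¹ u * pfn p u = 1 := by rw [← hmul, inv_mul_cancel, hone]
      have e2 : pfn p (ψ (LaurentPolynomial.T (-1))) * pfn p u = 1 := by
        rw [← map_mul, ← map_mul ψ, ← LaurentPolynomial.T_add]
        simp
      exact mul_right_cancel₀ (right_ne_zero_of_mul_eq_one e1) (e1.trans e2.symm)
    refine Algebra.eq_top_iff.mpr fun f => ?_
    obtain ⟨z, rfl⟩ := ψ.surjective f
    induction z using LaurentPolynomial.induction_on' with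
    | add p q hp hq => rw [map_add]; exact add_mem hp hq
    | C_mul_T n a =>
      rw [map_mul, show (LaurentPolynomial.C a : k[T;T⁻¹]) = algebraMap k _ a from rfl, AlgEquiv.commutes]
      refine mul_mem (Subalgebra.algebraMap_mem _ _) ?_
      rcases Int.natAbs_eq n with e | e <;> rw [e]
      · rw [show (LaurentPolynomial.T (n.natAbs : ℤ) : k[T;T⁻¹]) = LaurentPolynomial.T 1 ^ n.natAbs by
          rw [LaurentPolynomial.T_pow, _root_.mul_one], map_pow]
        exact pow_mem (Algebra.subset_adjoin (Set.mem_insert u _)) _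
      · rw [show (LaurentPolynomial.T (-(n.natAbs : ℤ)) : k[T;T⁻¹]) = LaurentPolynomial.T (-1) ^ n.natAbs by
          rw [LaurentPolynomial.T_pow, mul_neg, _root_.mul_one], map_pow, ← hinv]
        exact pow_mem (Algebra.subset_adjoin (s := ({u, ev ι[GmK k] u} : Set (Fn (GmK k))))
          (Set.mem_insert_of_mem u (Set.mem_singleton (ev ι[GmK k] u)))) _

/-- The multiplicative group is a torus. -/
theorem isTorus_GmK : Red.IsTorus (GmK k) := by
  let S := Spec (CommRingCat.of k)
  refine ⟨S, 𝟙 S, inferInstance, inferInstance, fun V hV => ⟨V, hV.isCompact, by simp⟩, fun s => ?_⟩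
  refine ⟨⊤, trivial, 1, ?_⟩
  obtain ⟨e1⟩ := GrpSchLib.MultTypeBC.bc_DS ((⊤ : S.Opens).ι ≫ 𝟙 S) ℤ
  let p : (Fin 1 → ℤ) ≃+ ℤ :=
    { toFun := fun f => f 0
      invFun := fun z _ => z
      left_inv := fun f => funext fun j => congrArg f (Subsingleton.elim _ _)
      right_inv := fun z => rfl
      map_add' := fun f g => rfl }
  have comp : ∀ {M N P : Type} [AddCommGroup M] [AddCommGroup N] [AddCommGroup P] (φ : M →+ N) (ψ : N →+ P),
      Red.DSmap ((⊤ : S.Opens) : Scheme.{u}) ψ ≫ Red.DSmap _ φ = Red.DSmap _ (ψ.comp φ) := by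
    intro M N P _ _ _ φ ψ
    rw [Red.DSmap, Red.DSmap, Red.DSmap, ← Functor.map_comp]
    congr 1
    ext1
    simp only [Red.diagMap, Over.comp_left]
    change Spec.map _ ≫ Spec.map _ = Spec.map _
    rw [← Spec.map_comp]
    congr 1
    ext1
    exact RingHom.ext fun x => by
      induction x using MonoidAlgebra.induction_linear with
      | zero => simp
      | add a b ha hb => simp only [map_add, ha, hb]
      | single m c => simp
  have idl : ∀ (M : Type) [AddCommGroup M],
      Red.DSmap ((⊤ : S.Opens) : Scheme.{u}) (AddMonoidHom.id M) = 𝟙 _ := by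
    intro M _
    rw [Red.DSmap, show Red.diagMap (ULift.{u} ℤ) (AddMonoidHom.id M) = 𝟙 _ from ?_, CategoryTheory.Functor.map_id]
    ext1
    change Spec.map _ = 𝟙 _
    rw [← Spec.map_id]
    congr 1
    ext1
    exact RingHom.ext fun x => by
      induction x using MonoidAlgebra.induction_linear with
      | zero => simp
      | add a b ha hb => simp only [map_add, ha, hb]
      | single m c => simp
  let j : Red.DS ((⊤ : S.Opens) : Scheme.{u}) ℤ ≅ Red.DS ((⊤ : S.Opens) : Scheme.{u}) (Fin 1 → ℤ) :=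
    { hom := Red.DSmap _ p.toAddMonoidHom
      inv := Red.DSmap _ p.symm.toAddMonoidHom
      hom_inv_id := by
        rw [comp]
        exact (congrArg (Red.DSmap _) (AddMonoidHom.ext fun z => p.apply_symm_apply z)).trans (idl ℤ)
      inv_hom_id := by
        rw [comp]
        exact (congrArg (Red.DSmap _) (AddMonoidHom.ext fun z => p.symm_apply_apply z)).trans (idl _) }
  haveI : IsMonHom j.hom := S5427.isMonHom_DSmap _ p.toAddMonoidHom
  exact ⟨e1 ≪≫ Grp.mkIso' j⟩

theorem not_isTrivialGrp_GmK : ¬ Red.IsTrivialGrp (GmK k) := by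
  intro h
  obtain ⟨_, _, u, -, hone, hex, -⟩ := exists_gm_fn k
  classical
  obtain ⟨c, hc⟩ := Infinite.exists_notMem_finset ({0, 1} : Finset k)
  simp only [Finset.mem_insert, Finset.mem_singleton, not_or] at hc
  obtain ⟨p, hp⟩ := hex (Units.mk0 c hc.1)
  haveI : IsIso (GmK k).hom := h
  have : p = 1 := Over.OverMorphism.ext ((cancel_mono (GmK k).hom).mp ((Over.w p).trans (Over.w (1 : Rat (GmK k))).symm))
  rw [this, hone] at hp
  exact hc.2 hp.symm

end Groth.Agent.Obs28.Unip
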