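import Groth.Agent.Obs28.Unip.MatLemma
import Groth.Agent.Obs28.Unip.Torus
import Groth.Agent.GrpSchLib.IdentityComp
import Mathlib.FieldTheory.IsAlgClosed.AlgebraicClosure
import Mathlib.LinearAlgebra.Matrix.Charpoly.Coeff
import Mathlib.LinearAlgebra.Charpoly.ToMatrix
import Mathlib.LinearAlgebra.Eigenspace.Minpoly
import Mathlib.LinearAlgebra.Eigenspace.Charpoly

/-! A smooth connected affine group without subtori is unipotent. -/

universe u

open CategoryTheory MonoidalCategory CartesianMonoidalCategory MonObj GrpObj AlgebraicGeometry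
open scoped TensorProduct

namespace Groth.Agent.Obs28.Unip

open GrpSchLib.Kunneth

set_option linter.unusedSectionVars false
set_option linter.style.haveILetI false

variable {k : Type u} [Field k] [IsAlgClosed k] {G : Over (Spec (CommRingCat.of k))} [GrpObj G]
  [IsAffine G.left] [Smooth G.hom]

theorem isIntegral_grp [ConnectedSpace G.left] : IsIntegral G.left := by
  obtain ⟨G₀, _, incl, _, hci, -, hr, hgi, -⟩ := GrpSchLib.exists_identityComponent (G := G)
  haveI := hgi
  haveI : IrreducibleSpace G₀.left := GeometricallyIrreducible.irreducibleSpace G₀.hom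
    fun s _ => Subsingleton.set_cases (p := IsOpen) isOpen_empty isOpen_univ _
  haveI : IrreducibleSpace G.left := by
    have hu : Set.range incl.left = Set.univ := hr.trans (PreconnectedSpace.connectedComponent_eq_univ _)
    refine @IrreducibleSpace.mk _ _ ⟨?_⟩ inferInstance
    rw [← hu, ← Set.image_univ]
    exact ((IrreducibleSpace.isIrreducible_univ _).image _ incl.left.continuous.continuousOn).isPreirreducible
  haveI := isReduced_grp G
  exact isIntegral_of_irreducibleSpace_of_isReduced _

/-- Homomorphisms from reduced schemes are determined on rational points. -/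
theorem hom_ext_rat {X Y : Over (Spec (CommRingCat.of k))} [IsReduced X.left] [LocallyOfFiniteType X.hom]
    [IsAffine Y.left] {f g : X ⟶ Y} (h : ∀ x : Rat X, x ≫ f = x ≫ g) : f = g :=
  GrpSchLib.LineGroups.ext_ev (AlgHom.ext fun a => ext_pts fun x => by rw [← pfn_comp, ← pfn_comp, h])

variable {V : Type u} [AddCommGroup V] [Module k V] {π : Rat G →* (V ≃ₗ[k] V)} (hπ : IsRegular π)
  {n : Type} [Fintype n] [DecidableEq n] (b : Module.Basis n k V)

/-- The matrix of functions of a representation. -/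
noncomputable def fnMat : Matrix n n (Fn G) := Matrix.of fun i j => coeff hπ (b.coord i) (b j)

theorem map_fnMat (g : Rat G) : (fnMat hπ b).map (pfn g) = LinearMap.toMatrix b b (π g).toLinearMap :=
  Matrix.ext fun i j => by
    simp [fnMat, LinearMap.toMatrix_apply, pfn_coeff]

/-- The matrix of a point with values in an algebra. -/
noncomputable def ptMat (B : Type u) [CommRing B] [Algebra k B] : (VecGrp.pt k B ⟶ G) →* Matrix n n B where
  toFun g := (fnMat hπ b).map (pfn g)
  map_one' := by
    have h : (fnMat hπ b).map (pfn (1 : Rat G)) = 1 := by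
      rw [map_fnMat, map_one]; exact LinearMap.toMatrix_one b
    rw [show (1 : VecGrp.pt k B ⟶ G) = VecGrp.ptMap (Algebra.ofId k B) ≫ (1 : Rat G) from (MonObj.comp_one _).symm,
      pfn_ptMap, AlgHom.coe_comp, ← Matrix.map_map, h, Matrix.map_one _ (map_zero _) (map_one _)]
  map_mul' g h := by
    haveI : IsSeparated G.hom := GrpSchLib.AntiAffine.isSeparated_grp G
    haveI : IsAffine (G ⊗ G).left := inferInstanceAs (IsAffine (Limits.pullback G.hom G.hom))
    haveI : Smooth (G ⊗ G).hom := inferInstanceAs (Smooth (Limits.pullback.fst G.hom G.hom ≫ G.hom))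
    haveI : IsReduced (G ⊗ G).left := GrpSchLib.isReduced_of_smooth_field (G ⊗ G).hom
    have key : ∀ i j, ev μ[G] (fnMat hπ b i j) =
        ∑ l, ev (fst G G) (fnMat hπ b i l) * ev (snd G G) (fnMat hπ b l j) := fun i j => ext_pts fun w => by
      have e := congrFun (congrFun (map_fnMat hπ b ((w ≫ fst G G) * (w ≫ snd G G))) i) j
      rw [Matrix.map_apply] at e
      rw [← pfn_comp, map_sum, ← lift_comp_fst_snd w, ← Hom.mul_def, e, map_mul,
        show ((π (w ≫ fst G G) * π (w ≫ snd G G)).toLinearMap) =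
          (π (w ≫ fst G G)).toLinearMap.comp (π (w ≫ snd G G)).toLinearMap from rfl,
        LinearMap.toMatrix_comp b b b, ← map_fnMat hπ b, ← map_fnMat hπ b, Matrix.mul_apply]
      refine Finset.sum_congr rfl fun l _ => ?_
      rw [map_mul, ← pfn_comp, ← pfn_comp, lift_comp_fst_snd]
      rfl
    refine Matrix.ext fun i j => ?_
    rw [Matrix.map_apply, Matrix.mul_apply, Hom.mul_def, pfn_comp, key, map_sum]
    refine Finset.sum_congr rfl fun l _ => ?_
    rw [map_mul, ← pfn_comp, ← pfn_comp, lift_fst, lift_snd]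
    rfl

theorem ptMat_apply {B : Type u} [CommRing B] [Algebra k B] (g : VecGrp.pt k B ⟶ G) :
    ptMat hπ b B g = (fnMat hπ b).map (pfn g) := rfl

theorem ptMat_injective (hgen : Algebra.adjoin k (Set.range fun p : n × n => fnMat hπ b p.1 p.2) = ⊤)
    {B : Type u} [CommRing B] [Algebra k B] : Function.Injective (ptMat hπ b B) := fun g h e =>
  pfn_injective (AlgHom.ext_of_adjoin_eq_top hgen (by
    rintro _ ⟨p, rfl⟩
    exact congrFun (congrFun e p.1) p.2))

/-- A nonunipotent faithful representation gives a subtorus. -/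
theorem exists_subtorus [ConnectedSpace G.left]
    (hgen : Algebra.adjoin k (Set.range fun p : n × n => fnMat hπ b p.1 p.2) = ⊤) (g₀ : Rat G)
    (hg₀ : ¬ IsNilpotent ((π g₀).toLinearMap - 1)) :
    ∃ θ : GmK k ⟶ G, IsMonHom θ ∧ Mono θ := by
  classical
  haveI := isIntegral_grp (G := G)
  haveI : IsDomain (Fn G) := GrpSchLib.Kunneth.isDomain_fn G
  let F := FractionRing (Fn G)
  let K := AlgebraicClosure F
  have hinjK : Function.Injective (algebraMap (Fn G) K) := by
    rw [IsScalarTower.algebraMap_eq (Fn G) F K, RingHom.coe_comp]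
    exact (algebraMap F K).injective.comp (IsFractionRing.injective (Fn G) F)
  let γ : VecGrp.pt k K ⟶ G := VecGrp.ptMap (IsScalarTower.toAlgHom k (Fn G) K) ≫ univ G
  have hγ : ptMat hπ b K γ = (fnMat hπ b).map (algebraMap (Fn G) K) := by
    rw [ptMat_apply, pfn_ptMap, pfn_univ]
    rfl
  have hdet : IsUnit (ptMat hπ b K γ).det :=
    (Matrix.isUnit_iff_isUnit_det _).mp ((Group.isUnit γ).map (ptMat hπ b K))
  -- an eigenvalue which is not constant
  obtain ⟨l, hl, hlk⟩ : ∃ l : K, (ptMat hπ b K γ).charpoly.IsRoot l ∧ l ∉ Set.range (algebraMap k K) := by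
    by_contra hne
    push Not at hne
    apply hg₀
    have hsplit : ((ptMat hπ b K γ).charpoly).Splits := IsAlgClosed.splits _
    obtain ⟨q, hq⟩ : ∃ q : Polynomial k, q.map (algebraMap k K) = (ptMat hπ b K γ).charpoly := by
      have hroots : ∀ z ∈ (ptMat hπ b K γ).charpoly.roots, z ∈ Set.range (algebraMap k K) := fun z hz =>
        hne z (Polynomial.isRoot_of_mem_roots hz)
      have e := hsplit.eq_prod_roots_of_monic (Matrix.charpoly_monic _)
      choose! r hr using hroots
      refine ⟨((ptMat hπ b K γ).charpoly.roots.map fun z => Polynomial.X - Polynomial.C (r z)).prod, ?_⟩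
      conv_rhs => rw [e]
      rw [Polynomial.map_multiset_prod, Multiset.map_map]
      refine congrArg Multiset.prod (Multiset.map_congr rfl fun z hz => ?_)
      simp [hr z hz]
    have hqA : q.map (algebraMap k (Fn G)) = (fnMat hπ b).charpoly := by
      apply Polynomial.map_injective (algebraMap (Fn G) K) hinjK
      rw [Polynomial.map_map, ← IsScalarTower.algebraMap_eq, hq, hγ, ← Matrix.charpoly_map]
    haveI : Module.Finite k V := Module.Finite.of_basis b
    haveI : Module.Free k V := Module.Free.of_basis b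
    have hg : ∀ g : Rat G, (π g).toLinearMap.charpoly = q := fun g => by
      haveI : Module.Finite k V := Module.Finite.of_basis b
      haveI : Module.Free k V := Module.Free.of_basis b
      rw [← LinearMap.charpoly_toMatrix _ b, ← map_fnMat hπ b g]
      have : (fnMat hπ b).map (pfn g) = (fnMat hπ b).map ((pfn g : Fn G →ₐ[k] k) : Fn G →+* k) := rfl
      rw [this, Matrix.charpoly_map, ← hqA, Polynomial.map_map]
      rw [show ((pfn g : Fn G →ₐ[k] k) : Fn G →+* k).comp (algebraMap k (Fn G)) = RingHom.id k from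
        RingHom.ext fun x => (pfn g).commutes x, Polynomial.map_id]
    haveI : Module.Finite k V := Module.Finite.of_basis b
    haveI : Module.Free k V := Module.Free.of_basis b
    have h1 := hg 1
    rw [map_one, show ((1 : V ≃ₗ[k] V).toLinearMap) = (1 : Module.End k V) from rfl, LinearMap.charpoly_one] at h1
    have h2 := LinearMap.aeval_self_charpoly (π g₀).toLinearMap
    rw [hg g₀, ← h1] at h2
    exact ⟨Module.finrank k V, by simpa using h2⟩
  have hord : ∀ m : ℕ, 0 < m → l ^ m ≠ 1 := by
    intro m hm hlm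
    apply hlk
    have hint : IsIntegral k l := IsIntegral.of_pow hm (hlm ▸ isIntegral_one)
    obtain ⟨c, hc⟩ := minpoly.mem_range_of_degree_eq_one k l
      (IsAlgClosed.degree_eq_one_of_irreducible _ (minpoly.irreducible hint))
    exact ⟨c, hc⟩
  obtain ⟨P, Q, v, c, hPQ, hQP, hcv, hvan⟩ := exists_oneParam (MonoidHom.mrange (ptMat hπ b K)) ⟨γ, rfl⟩ hdet
    (l := l) (by rwa [Module.End.hasEigenvalue_iff_isRoot_charpoly, Matrix.charpoly_toLin']) hord
  -- descend the basis
  let A₀ := Algebra.adjoin k (Set.range (fun p : n × n => P p.1 p.2) ∪ Set.range fun p : n × n => Q p.1 p.2)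
  haveI : Algebra.FiniteType k A₀ := (Subalgebra.fg_iff_finiteType A₀).mp
    (Subalgebra.fg_def.mpr ⟨_, (Set.finite_range _).union (Set.finite_range _), rfl⟩)
  let P' : Matrix n n A₀ := Matrix.of fun i j => ⟨P i j, Algebra.subset_adjoin (Or.inl ⟨(i, j), rfl⟩)⟩
  let Q' : Matrix n n A₀ := Matrix.of fun i j => ⟨Q i j, Algebra.subset_adjoin (Or.inr ⟨(i, j), rfl⟩)⟩
  obtain ⟨χ, -⟩ := exists_point_ne_zero (k := k) (one_ne_zero : (1 : A₀) ≠ 0)
  let P₀ := P'.map χ
  let Q₀ := Q'.map χ
  have hQP₀ : Q₀ * P₀ = 1 := by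
    have h' : Q' * P' = 1 := by
      have hinj : Function.Injective fun M : Matrix n n A₀ => A₀.val.mapMatrix M :=
        Matrix.map_injective Subtype.val_injective
      apply hinj
      show A₀.val.mapMatrix (Q' * P') = A₀.val.mapMatrix 1
      rw [map_mul, map_one]
      exact hQP
    have := congrArg χ.mapMatrix h'
    rwa [map_mul, map_one] at this
  have hPQ₀ : P₀ * Q₀ = 1 := mul_eq_one_comm.mp hQP₀
  let D : kˣ → Matrix n n k := fun t => P₀ * Matrix.diagonal (fun j => ((t ^ v j : kˣ) : k)) * Q₀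
  have hker : ∀ (t : kˣ) (f : MvPolynomial (n × n) k),
      MvPolynomial.aeval (fun p : n × n => fnMat hπ b p.1 p.2) f = 0 →
      MvPolynomial.aeval (fun p : n × n => D t p.1 p.2) f = 0 := by
    intro t f hf
    let D' : Matrix n n A₀ := P' * Matrix.diagonal (fun j => algebraMap k A₀ ((t ^ v j : kˣ) : k)) * Q'
    have h1 : MvPolynomial.aeval (fun p : n × n => D' p.1 p.2) f = 0 := by
      have hval : Function.Injective A₀.val := Subtype.val_injective
      apply hval
      rw [map_zero, ← AlgHom.comp_apply, MvPolynomial.comp_aeval]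
      have h2 := hvan (Units.map (algebraMap k K).toMonoidHom t) (MvPolynomial.map (algebraMap k K) f) (by
        rintro _ ⟨g, rfl⟩
        show MvPolynomial.aeval _ (MvPolynomial.map _ f) = 0
        rw [MvPolynomial.aeval_map_algebraMap]
        have h3 : (fun p : n × n => ptMat hπ b K g p.1 p.2) = fun p => pfn g (fnMat hπ b p.1 p.2) := rfl
        rw [h3, ← MvPolynomial.comp_aeval, AlgHom.comp_apply, hf, map_zero])
      rw [evM, MvPolynomial.aeval_map_algebraMap] at h2
      refine Eq.trans ?_ h2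
      refine congrArg (fun g => MvPolynomial.aeval g f) (funext fun p => ?_)
      show A₀.val.mapMatrix D' p.1 p.2 = _
      simp only [D', map_mul]
      rw [show A₀.val.mapMatrix P' = P from rfl, show A₀.val.mapMatrix Q' = Q from rfl]
      refine congrFun (congrFun ?_ p.1) p.2
      rw [AlgHom.mapMatrix_apply, Matrix.diagonal_map (map_zero _)]
      congr 3
      funext j
      simp [← map_zpow]
    have h4 := congrArg χ h1
    rw [map_zero, ← AlgHom.comp_apply, MvPolynomial.comp_aeval] at h4
    refine Eq.trans ?_ h4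
    refine congrArg (fun g => MvPolynomial.aeval g f) (funext fun p => ?_)
    show D t p.1 p.2 = χ.mapMatrix D' p.1 p.2
    simp only [D', D, map_mul, P₀, Q₀]
    rw [AlgHom.mapMatrix_apply, AlgHom.mapMatrix_apply, AlgHom.mapMatrix_apply, Matrix.diagonal_map (map_zero _)]
    simp
  -- the homomorphism
  obtain ⟨_, _, u, humul, huone, huex, huinj, hugen, -⟩ := exists_gm_fn k
  haveI := isReduced_grp (GmK k)
  have huunit : u * ev ι[GmK k] u = 1 := ext_pts fun p => by
    rw [map_mul, map_one, ← pfn_comp, ← humul, GrpObj.inv_eq_inv, GrpObj.comp_inv, Category.comp_id,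
      mul_inv_cancel, huone]
  let U : (Fn (GmK k))ˣ := ⟨u, ev ι[GmK k] u, huunit, by rw [mul_comm, huunit]⟩
  have hUne : ∀ p : Rat (GmK k), pfn p u ≠ 0 := fun p => ((Units.isUnit U).map (pfn p)).ne_zero
  let tv : Rat (GmK k) → kˣ := fun p => Units.mk0 (pfn p u) (hUne p)
  have hUz : ∀ (p : Rat (GmK k)) (z : ℤ), pfn p ((U ^ z : (Fn (GmK k))ˣ) : Fn (GmK k)) = ((tv p ^ z : kˣ) : k) := by
    intro p z
    have e : Units.map ((pfn p : Fn (GmK k) →ₐ[k] k) : Fn (GmK k) →* k) U = tv p := Units.ext rfl
    rw [← e, ← map_zpow]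
    rfl
  let Mg : Matrix n n (Fn (GmK k)) :=
    P₀.map (algebraMap k _) * Matrix.diagonal (fun j => ((U ^ v j : (Fn (GmK k))ˣ) : Fn (GmK k))) *
      Q₀.map (algebraMap k _)
  have hMg : ∀ p : Rat (GmK k), Mg.map (pfn p) = D (tv p) := by
    intro p
    show (pfn p).mapMatrix Mg = _
    simp only [Mg, D, map_mul]
    rw [AlgHom.mapMatrix_apply, AlgHom.mapMatrix_apply, AlgHom.mapMatrix_apply, Matrix.map_map, Matrix.map_map,
      Matrix.diagonal_map (map_zero _)]
    simp [Function.comp_def, hUz, P₀]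
  let E : MvPolynomial (n × n) k →ₐ[k] Fn G := MvPolynomial.aeval fun p => fnMat hπ b p.1 p.2
  have hE : Function.Surjective E := by
    rw [← AlgHom.range_eq_top, ← Algebra.adjoin_range_eq_range_aeval, hgen]
  let φ : Fn G →ₐ[k] Fn (GmK k) := AlgHom.liftOfSurjective E hE
    (MvPolynomial.aeval fun p => Mg p.1 p.2) fun f hf => ext_pts fun p => by
      rw [map_zero]
      show pfn p ((MvPolynomial.aeval fun q : n × n => Mg q.1 q.2) f) = 0
      rw [← AlgHom.comp_apply, MvPolynomial.comp_aeval]
      exact (congrArg (fun g => MvPolynomial.aeval g f) (funext fun q => congrFun (congrFun (hMg p) q.1) q.2)).trans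
        (hker (tv p) f hf)
  have hφE : φ.comp E = MvPolynomial.aeval fun p => Mg p.1 p.2 := AlgHom.liftOfSurjective_comp _ _ _ _
  obtain ⟨θ, hθ⟩ := GrpSchLib.LineGroups.exists_hom_ev φ
  have hθM : (fnMat hπ b).map (ev θ) = Mg := by
    rw [hθ]
    refine Matrix.ext fun i j => ?_
    have := DFunLike.congr_fun hφE (MvPolynomial.X (i, j))
    simpa [E] using this
  have hθp : ∀ p : Rat (GmK k), ptMat hπ b k (p ≫ θ) = D (tv p) := fun p => by
    rw [ptMat_apply, ← hMg p, ← hθM, Matrix.map_map]
    rfl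
  have hD1 : D 1 = 1 := by simp [D, hPQ₀]
  have hDmul : ∀ s t, D (s * t) = D s * D t := fun s t => by
    simp only [D]
    rw [show P₀ * Matrix.diagonal (fun j => ((s ^ v j : kˣ) : k)) * Q₀ *
        (P₀ * Matrix.diagonal (fun j => ((t ^ v j : kˣ) : k)) * Q₀) =
        P₀ * Matrix.diagonal (fun j => ((s ^ v j : kˣ) : k)) * (Q₀ * P₀) *
          Matrix.diagonal (fun j => ((t ^ v j : kˣ) : k)) * Q₀ by simp only [Matrix.mul_assoc], hQP₀,
      Matrix.mul_one, Matrix.mul_assoc P₀ (Matrix.diagonal _) (Matrix.diagonal _), Matrix.diagonal_mul_diagonal]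
    simp [mul_zpow]
  haveI hθhom : IsMonHom θ := by
    haveI : IsReduced (𝟙_ (Over (Spec (CommRingCat.of k)))).left :=
      inferInstanceAs (IsReduced (Spec (CommRingCat.of k)))
    haveI : LocallyOfFiniteType (𝟙_ (Over (Spec (CommRingCat.of k)))).hom :=
      inferInstanceAs (LocallyOfFiniteType (𝟙 (Spec (CommRingCat.of k))))
    haveI : IsAffine (GmK k ⊗ GmK k).left := inferInstanceAs (IsAffine (Limits.pullback (GmK k).hom (GmK k).hom))
    haveI : Smooth (GmK k ⊗ GmK k).hom :=
      inferInstanceAs (Smooth (Limits.pullback.fst (GmK k).hom (GmK k).hom ≫ (GmK k).hom))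
    haveI : IsReduced (GmK k ⊗ GmK k).left := GrpSchLib.isReduced_of_smooth_field (GmK k ⊗ GmK k).hom
    refine ⟨hom_ext_rat fun x => ptMat_injective hπ b hgen ?_, hom_ext_rat fun w => ptMat_injective hπ b hgen ?_⟩
    · rw [← Category.assoc, toUnit_unique x (toUnit _), ← Hom.one_def, ← Hom.one_def, map_one, hθp,
        show tv 1 = 1 from Units.ext huone, hD1]
    · rw [← Category.assoc, ← Category.assoc, hθp]
      have e1 : w ≫ μ[GmK k] = (w ≫ fst _ _) * (w ≫ snd _ _) := by rw [Hom.mul_def, lift_comp_fst_snd]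
      have e2 : w ≫ (θ ⊗ₘ θ) ≫ μ[G] = ((w ≫ fst _ _) ≫ θ) * ((w ≫ snd _ _) ≫ θ) := by
        rw [Hom.mul_def, ← Category.assoc]
        congr 1
        ext <;> simp
      rw [e1, Category.assoc, e2, map_mul, hθp, hθp, ← hDmul]
      congr 1
      exact Units.ext (humul _ _)
  refine ⟨θ, hθhom, ?_⟩
  have hsurj : Function.Surjective (ev θ) := by
    rw [← AlgHom.range_eq_top]
    have hι : ∀ x ∈ (ev θ).range, ev ι[GmK k] x ∈ (ev θ).range := by
      rintro _ ⟨a, rfl⟩
      refine ⟨ev ι[G] a, ext_pts fun p => ?_⟩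
      show pfn p (ev θ (ev ι[G] a)) = pfn p (ev ι[GmK k] (ev θ a))
      rw [← pfn_comp, ← pfn_comp, ← pfn_comp, ← pfn_comp]
      congr 2
      rw [GrpObj.inv_eq_inv, GrpObj.inv_eq_inv, GrpObj.comp_inv, GrpObj.comp_inv, Category.comp_id,
        Category.comp_id, GrpObj.inv_comp]
    have hmem : ∀ j, ((U ^ v j : (Fn (GmK k))ˣ) : Fn (GmK k)) ∈ (ev θ).range := by
      intro j
      have e : Matrix.diagonal (fun j => ((U ^ v j : (Fn (GmK k))ˣ) : Fn (GmK k))) =
          Q₀.map (algebraMap k _) * (fnMat hπ b).map (ev θ) * P₀.map (algebraMap k _) := by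
        have h1 : Q₀.map (algebraMap k (Fn (GmK k))) * P₀.map (algebraMap k _) = 1 := by
          have := congrArg (Algebra.ofId k (Fn (GmK k))).mapMatrix hQP₀
          rwa [map_mul, map_one] at this
        rw [hθM]
        simp only [Mg]
        rw [show Q₀.map (algebraMap k (Fn (GmK k))) * (P₀.map (algebraMap k _) *
            Matrix.diagonal (fun j => ((U ^ v j : (Fn (GmK k))ˣ) : Fn (GmK k))) * Q₀.map (algebraMap k _)) *
            P₀.map (algebraMap k _) = (Q₀.map (algebraMap k _) * P₀.map (algebraMap k _)) *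
            Matrix.diagonal (fun j => ((U ^ v j : (Fn (GmK k))ˣ) : Fn (GmK k))) *
            (Q₀.map (algebraMap k _) * P₀.map (algebraMap k _)) by simp only [Matrix.mul_assoc], h1,
          Matrix.one_mul, Matrix.mul_one]
      have e2 := congrFun (congrFun e j) j
      rw [Matrix.diagonal_apply_eq] at e2
      rw [e2, Matrix.mul_apply]
      refine sum_mem fun a _ => mul_mem ?_ (Subalgebra.algebraMap_mem _ _)
      rw [Matrix.mul_apply]
      exact sum_mem fun a' _ => mul_mem (Subalgebra.algebraMap_mem _ _) ⟨_, rfl⟩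
    let S : Subgroup (Fn (GmK k))ˣ :=
      { carrier := {w | (w : Fn (GmK k)) ∈ (ev θ).range ∧ ((w⁻¹ : (Fn (GmK k))ˣ) : Fn (GmK k)) ∈ (ev θ).range}
        one_mem' := ⟨by rw [Units.val_one]; exact one_mem _, by rw [inv_one, Units.val_one]; exact one_mem _⟩
        mul_mem' := fun ha hb => ⟨by rw [Units.val_mul]; exact mul_mem ha.1 hb.1,
          by rw [_root_.mul_inv, Units.val_mul]; exact mul_mem ha.2 hb.2⟩
        inv_mem' := fun ha => ⟨ha.2, by rw [_root_.inv_inv]; exact ha.1⟩ }
    have hS : ∀ j, U ^ v j ∈ S := fun j => by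
      refine ⟨hmem j, ?_⟩
      have := hι _ (hmem j)
      convert this using 1
      refine ext_pts fun p => ?_
      rw [← zpow_neg, hUz, ← pfn_comp, hUz, GrpObj.inv_eq_inv, GrpObj.comp_inv, Category.comp_id]
      have : tv p⁻¹ = (tv p)⁻¹ := eq_inv_of_mul_eq_one_left (Units.ext (by
        show pfn p⁻¹ u * pfn p u = 1
        rw [← humul, inv_mul_cancel, huone]))
      rw [this, inv_zpow, zpow_neg]
    have hUS : U ∈ S := by
      rw [← zpow_one U, ← hcv, zpow_finset_sum]
      exact Subgroup.prod_mem S fun j _ => by rw [mul_comm, zpow_mul]; exact S.zpow_mem (hS j) _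
    rw [eq_top_iff, ← hugen, Algebra.adjoin_le_iff]
    rintro _ (rfl | rfl)
    · exact hUS.1
    · exact hι _ hUS.1
  haveI : IsClosedImmersion θ.left :=
    IsClosedImmersion.of_surjective_of_isAffine θ.left hsurj
  exact (Over.forget _).mono_of_mono_map (inferInstanceAs (Mono θ.left))

end Groth.Agent.Obs28.Unip
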