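import Mathlib.LinearAlgebra.Eigenspace.Triangularizable
import Mathlib.LinearAlgebra.Matrix.NonsingularInverse
import Mathlib.LinearAlgebra.Matrix.ToLin
import Mathlib.Algebra.Module.Torsion.Basic
import Mathlib.Algebra.Module.Torsion.Free
import Mathlib.LinearAlgebra.FreeModule.PID
import Mathlib.FieldTheory.IsAlgClosed.Basic
import Mathlib.Algebra.MvPolynomial.Eval
import Mathlib.Algebra.MvPolynomial.Funext

/-! A closed monoid of matrices containing an element with an eigenvalue of infinite order contains a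
one-parameter subgroup. -/

universe u v

open Module

namespace Groth.Agent.Obs28.Unip

set_option linter.unusedSectionVars false
set_option linter.style.haveILetI false

section GenEigen

variable {K : Type u} [Field K] {A : Type v} [CommRing A] [Algebra K A] (R : A →ₐ[K] A)

/-- Generalized eigenvectors of an algebra endomorphism. -/
def GE (μ : K) : Submodule K A := Module.End.maxGenEigenspace R.toLinearMap μ

theorem mem_GE {μ : K} {x : A} : x ∈ GE R μ ↔ ∃ N : ℕ, ((R.toLinearMap - μ • 1) ^ N) x = 0 :=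
  Module.End.mem_maxGenEigenspace _ _ _

theorem GE_one : (1 : A) ∈ GE R 1 := (mem_GE R).mpr ⟨1, by simp⟩

theorem GE_mul {μ ν : K} {a b : A} (ha : a ∈ GE R μ) (hb : b ∈ GE R ν) : a * b ∈ GE R (μ * ν) := by
  obtain ⟨r, hr⟩ := (mem_GE R).mp ha
  obtain ⟨s, hs⟩ := (mem_GE R).mp hb
  suffices H : ∀ N r s : ℕ, r + s = N → ∀ a b : A, ((R.toLinearMap - μ • 1) ^ r) a = 0 →
      ((R.toLinearMap - ν • 1) ^ s) b = 0 → ((R.toLinearMap - (μ * ν) • 1) ^ N) (a * b) = 0 from
    (mem_GE R).mpr ⟨_, H _ r s rfl a b hr hs⟩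
  intro N
  induction N with
  | zero =>
    intro r s hN a b h1 _
    obtain ⟨rfl, rfl⟩ : r = 0 ∧ s = 0 := by omega
    simp only [pow_zero, Module.End.one_apply] at h1 ⊢
    rw [h1, zero_mul]
  | succ N ih =>
    intro r s hN a b h1 h2
    rw [pow_succ, Module.End.mul_apply]
    have e : (R.toLinearMap - (μ * ν) • 1) (a * b) =
        (R.toLinearMap - μ • 1) a * R b + μ • (a * (R.toLinearMap - ν • 1) b) := by
      simp [mul_smul, sub_mul, mul_sub, smul_sub]
    rw [e, map_add, map_smul]
    have hR : ((R.toLinearMap - ν • 1) ^ s) (R b) = 0 := by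
      have hc : Commute ((R.toLinearMap - ν • 1) ^ s) R.toLinearMap :=
        Commute.pow_left ((Commute.refl _).sub_left ((Commute.one_left _).smul_left ν)) s
      have := LinearMap.congr_fun hc.eq b
      rw [Module.End.mul_apply, Module.End.mul_apply, h2, map_zero] at this
      exact this
    have t1 : ((R.toLinearMap - (μ * ν) • 1) ^ N) ((R.toLinearMap - μ • 1) a * R b) = 0 := by
      rcases Nat.eq_zero_or_pos r with hr0 | hr0
      · subst hr0
        rw [pow_zero, Module.End.one_apply] at h1
        rw [h1, map_zero, zero_mul, map_zero]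
      · refine ih (r - 1) s (by omega) _ _ ?_ hR
        rwa [← Module.End.mul_apply, ← pow_succ, Nat.sub_add_cancel hr0]
    have t2 : ((R.toLinearMap - (μ * ν) • 1) ^ N) (a * (R.toLinearMap - ν • 1) b) = 0 := by
      rcases Nat.eq_zero_or_pos s with hs0 | hs0
      · subst hs0
        rw [pow_zero, Module.End.one_apply] at h2
        rw [h2, map_zero, mul_zero, map_zero]
      · refine ih r (s - 1) (by omega) _ _ h1 ?_
        rwa [← Module.End.mul_apply, ← pow_succ, Nat.sub_add_cancel hs0]
    rw [t1, t2, smul_zero, add_zero]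

theorem GE_pow {μ : K} {a : A} (ha : a ∈ GE R μ) (m : ℕ) : a ^ m ∈ GE R (μ ^ m) := by
  induction m with
  | zero => rw [pow_zero, pow_zero]; exact GE_one R
  | succ m ih => rw [pow_succ, pow_succ]; exact GE_mul R ih ha

theorem GE_prod {ι : Type*} (s : Finset ι) (μ : ι → K) (a : ι → A) (ha : ∀ j ∈ s, a j ∈ GE R (μ j)) :
    ∏ j ∈ s, a j ∈ GE R (∏ j ∈ s, μ j) := by
  classical
  induction s using Finset.induction_on with
  | empty => simpa using GE_one R
  | insert j s hj ih =>
    rw [Finset.prod_insert hj, Finset.prod_insert hj]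
    exact GE_mul R (ha j (Finset.mem_insert_self j s)) (ih fun l hl => ha l (Finset.mem_insert_of_mem hl))

/-- A stable subspace contains the components of its members. -/
theorem mem_of_sum_mem {I : Submodule K A} (hI : ∀ x ∈ I, R x ∈ I) (s : Finset K) :
    ∀ x : K → A, (∀ μ ∈ s, x μ ∈ GE R μ) → ∑ μ ∈ s, x μ ∈ I → ∀ μ ∈ s, x μ ∈ I := by
  classical
  have hpoly : ∀ (p : Polynomial K), ∀ z ∈ I, Polynomial.aeval R.toLinearMap p z ∈ I := by
    intro p z hz
    induction p using Polynomial.induction_on' with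
    | add p q hp hq => rw [map_add, LinearMap.add_apply]; exact I.add_mem hp hq
    | monomial m c =>
      rw [Polynomial.aeval_monomial, Module.End.mul_apply, Module.algebraMap_end_apply]
      refine I.smul_mem c ?_
      clear c
      induction m with
      | zero => simpa using hz
      | succ m ih => rw [pow_succ', Module.End.mul_apply]; exact hI _ ih
  induction s using Finset.induction_on with
  | empty => simp
  | insert μ₀ s hμ₀ ih =>
    intro x hx hsum
    obtain ⟨N, hN⟩ := (mem_GE R).mp (hx μ₀ (Finset.mem_insert_self _ _))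
    let D := (R.toLinearMap - μ₀ • 1) ^ N
    have hD : D = Polynomial.aeval R.toLinearMap ((Polynomial.X - Polynomial.C μ₀) ^ N) := by
      simp [D, Algebra.algebraMap_eq_smul_one]
    have hcomm : ∀ μ : K, Commute D (R.toLinearMap - μ • 1) := fun μ =>
      Commute.pow_left (((Commute.refl _).sub_left ((Commute.one_left _).smul_left μ₀)).sub_right
        ((Commute.one_right _).smul_right μ)) N
    have h1 : ∑ μ ∈ s, D (x μ) ∈ I := by
      have := hpoly ((Polynomial.X - Polynomial.C μ₀) ^ N) _ hsum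
      rwa [← hD, Finset.sum_insert hμ₀, map_add, hN, zero_add, map_sum] at this
    have h2 : ∀ μ ∈ s, D (x μ) ∈ I := by
      refine ih (fun μ => D (x μ)) (fun μ hμ => ?_) h1
      obtain ⟨M, hM⟩ := (mem_GE R).mp (hx μ (Finset.mem_insert_of_mem hμ))
      refine (mem_GE R).mpr ⟨M, ?_⟩
      rw [← Module.End.mul_apply, ← ((hcomm μ).pow_right M).eq, Module.End.mul_apply, hM, map_zero]
    have h3 : ∀ μ ∈ s, x μ ∈ I := by
      intro μ hμ
      obtain ⟨M, hM⟩ := (mem_GE R).mp (hx μ (Finset.mem_insert_of_mem hμ))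
      have hne : μ₀ - μ ≠ 0 := sub_ne_zero.mpr fun h => hμ₀ (h ▸ hμ)
      have hco : IsCoprime (Polynomial.X - Polynomial.C μ₀) (Polynomial.X - Polynomial.C μ) :=
        Polynomial.isCoprime_X_sub_C_of_isUnit_sub (isUnit_iff_ne_zero.mpr hne)
      obtain ⟨p, q, hpq⟩ := (hco.pow (m := N) (n := M))
      have h4 := LinearMap.congr_fun (congrArg (Polynomial.aeval R.toLinearMap) hpq) (x μ)
      rw [map_add, map_mul, map_mul, map_one, ← hD, LinearMap.add_apply, Module.End.mul_apply,
        Module.End.mul_apply, Module.End.one_apply] at h4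
      have h5 : Polynomial.aeval R.toLinearMap ((Polynomial.X - Polynomial.C μ) ^ M) (x μ) = 0 := by
        simpa [Algebra.algebraMap_eq_smul_one] using hM
      rw [h5, map_zero, add_zero] at h4
      rw [← h4]
      exact hpoly p _ (h2 μ hμ)
    intro μ hμ
    rcases Finset.mem_insert.mp hμ with rfl | hμ
    · have := I.sub_mem hsum (I.sum_mem h3)
      rwa [Finset.sum_insert hμ₀, add_sub_cancel_right] at this
    · exact h3 μ hμ

end GenEigen

/-- A multiplicative family of scalars with a member of infinite order has a surjective integral functional. -/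
theorem exists_functional {n : Type} [Fintype n] [DecidableEq n] {K : Type u} [Field K] (μ : n → Kˣ) (j₀ : n)
    (h : ∀ m : ℕ, 0 < m → μ j₀ ^ m ≠ 1) :
    ∃ ℓ : (n → ℤ) →+ ℤ, Function.Surjective ℓ ∧
      ∀ a b : n → ℤ, (∏ j, μ j ^ a j) = (∏ j, μ j ^ b j) → ℓ a = ℓ b := by
  let χ : (n → ℤ) →ₗ[ℤ] Additive Kˣ := Fintype.linearCombination ℤ fun j => Additive.ofMul (μ j)
  have hχ : ∀ a, χ a = Additive.ofMul (∏ j, μ j ^ a j) := fun a => by
    rw [Fintype.linearCombination_apply, ofMul_prod]
    exact Finset.sum_congr rfl fun j _ => rfl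
  let M := LinearMap.range χ
  haveI : Module.Finite ℤ M := Module.Finite.range χ
  let T := Submodule.torsion ℤ M
  let Q := M ⧸ T
  haveI : Module.IsTorsionFree ℤ Q := inferInstance
  haveI : Module.Finite ℤ Q := inferInstance
  haveI : Module.Free ℤ Q := Module.free_of_finite_type_torsion_free'
  let π : (n → ℤ) →ₗ[ℤ] Q := T.mkQ ∘ₗ χ.rangeRestrict
  have hne : π (Pi.single j₀ 1) ≠ 0 := by
    intro h0
    obtain ⟨⟨m, hm⟩, hm'⟩ := (Submodule.mem_torsion_iff (χ.rangeRestrict (Pi.single j₀ 1))).mp
      ((Submodule.Quotient.mk_eq_zero T).mp h0)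
    have hm0 : m ≠ 0 := nonZeroDivisors.ne_zero hm
    have h2 : χ (m • Pi.single j₀ 1) = 0 := by
      rw [map_smul]
      exact congrArg Subtype.val hm'
    rw [hχ] at h2
    have h3 : μ j₀ ^ m = 1 := by
      have h4 := congrArg Additive.toMul h2
      simpa [Pi.single_apply] using h4
    rcases Int.natAbs_eq m with e | e
    · rw [e, zpow_natCast] at h3
      exact h _ (Int.natAbs_pos.mpr hm0) h3
    · rw [e, zpow_neg, zpow_natCast, inv_eq_one] at h3
      exact h _ (Int.natAbs_pos.mpr hm0) h3
  haveI : Nontrivial Q := ⟨⟨_, 0, hne⟩⟩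
  let b := Module.Free.chooseBasis ℤ Q
  obtain ⟨i⟩ := b.index_nonempty
  refine ⟨((b.coord i) ∘ₗ π).toAddMonoidHom, ?_, fun a c hac => ?_⟩
  · intro z
    obtain ⟨a, ha⟩ := T.mkQ_surjective.comp χ.surjective_rangeRestrict (z • b i)
    refine ⟨a, ?_⟩
    show b.coord i (π a) = z
    rw [show π a = z • b i from ha, map_smul, Module.Basis.coord_apply, Module.Basis.repr_self,
      Finsupp.single_eq_same, smul_eq_mul, mul_one]
  · show b.coord i (π a) = b.coord i (π c)
    have : χ.rangeRestrict a = χ.rangeRestrict c := Subtype.ext (by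
      show χ a = χ c
      rw [hχ, hχ, hac])
    simp only [π, LinearMap.comp_apply, this]

theorem zpow_finset_sum {Γ : Type*} [CommGroup Γ] (t : Γ) {ι : Type*} (s : Finset ι) (f : ι → ℤ) :
    t ^ (∑ i ∈ s, f i) = ∏ i ∈ s, t ^ f i := by
  classical
  induction s using Finset.induction_on with
  | empty => simp
  | insert j s hj ih => rw [Finset.sum_insert hj, Finset.prod_insert hj, zpow_add, ih]

section Mat

open MvPolynomial

variable {n : Type} [Fintype n] [DecidableEq n] {K : Type u} [Field K]

/-- The value of a polynomial at a matrix. -/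
noncomputable def evM (x : Matrix n n K) : MvPolynomial (n × n) K →ₐ[K] K := aeval fun p => x p.1 p.2

/-- A monoid of matrices with an element with an eigenvalue of infinite order has a one-parameter subgroup
in its Zariski closure. -/
theorem exists_oneParam [IsAlgClosed K] (S : Submonoid (Matrix n n K)) {g : Matrix n n K} (hg : g ∈ S)
    (hdet : IsUnit g.det) {l : K} (hl : Module.End.HasEigenvalue (Matrix.toLin' g) l)
    (hord : ∀ m : ℕ, 0 < m → l ^ m ≠ 1) :
    ∃ (P Q : Matrix n n K) (v : n → ℤ) (c : n → ℤ), P * Q = 1 ∧ Q * P = 1 ∧ ∑ j, c j * v j = 1 ∧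
      ∀ t : Kˣ, ∀ f : MvPolynomial (n × n) K, (∀ x ∈ S, evM x f = 0) →
        evM (P * Matrix.diagonal (fun j => ((t ^ v j : Kˣ) : K)) * Q) f = 0 := by
  classical
  let G : Module.End K (n → K) := Matrix.toLin' g
  -- a basis of generalized eigenvectors
  let s : Set (n → K) := {x | ∃ μ, x ∈ G.maxGenEigenspace μ}
  have hs : ⊤ ≤ Submodule.span K s := by
    rw [← Module.End.iSup_maxGenEigenspace_eq_top G]
    exact iSup_le fun μ x hx => Submodule.subset_span ⟨μ, hx⟩
  let b' := Module.Basis.ofSpan hs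
  let b : Module.Basis n K (n → K) := b'.reindex (Module.Basis.indexEquiv b' (Pi.basisFun K n))
  have hbs : ∀ j, ∃ μ, b j ∈ G.maxGenEigenspace μ := fun j => by
    simp only [b, Module.Basis.reindex_apply]
    exact Module.Basis.ofSpan_subset hs ⟨_, rfl⟩
  choose μ hμ using hbs
  have hGinj : Function.Injective G := by
    intro x y hxy
    have e : ∀ z, G z = g.mulVec z := fun z => rfl
    rw [e, e] at hxy
    exact Matrix.mulVec_injective_iff_isUnit.mpr ((Matrix.isUnit_iff_isUnit_det g).mpr hdet) hxy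
  have hμ0 : ∀ j, μ j ≠ 0 := by
    intro j h0
    obtain ⟨N, hN⟩ := (Module.End.mem_maxGenEigenspace _ _ _).mp (hμ j)
    rw [h0, zero_smul, sub_zero] at hN
    have hinj : Function.Injective (G ^ N) := by rw [Module.End.coe_pow]; exact hGinj.iterate N
    exact b.ne_zero j (hinj (hN.trans (map_zero _).symm))
  obtain ⟨j₀, hj₀⟩ : ∃ j, μ j = l := by
    by_contra hne
    push Not at hne
    obtain ⟨x, hx, hx0⟩ := hl.exists_hasEigenvector
    have hx' : x ∈ G.maxGenEigenspace l :=
      (Module.End.genEigenspace G l).monotone le_top hx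
    have htop : x ∈ ⨆ (ν : K) (_ : ν ≠ l), G.maxGenEigenspace ν := by
      have hxs : x ∈ Submodule.span K (Set.range b) := b.span_eq ▸ Submodule.mem_top
      refine (Submodule.span_le.mpr ?_) hxs
      rintro _ ⟨j, rfl⟩
      exact Submodule.mem_iSup_of_mem (μ j) (Submodule.mem_iSup_of_mem (hne j) (hμ j))
    exact hx0 (Submodule.disjoint_def.mp (Module.End.independent_maxGenEigenspace G l) x hx' htop)
  let μu : n → Kˣ := fun j => Units.mk0 (μ j) (hμ0 j)
  obtain ⟨ℓ, hℓ, hℓker⟩ := exists_functional μu j₀ fun m hm h => hord m hm (by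
    have := congrArg Units.val h
    simpa [μu, hj₀] using this)
  obtain ⟨c, hc⟩ := hℓ 1
  let v : n → ℤ := fun j => ℓ (Pi.single j 1)
  have hℓv : ∀ a : n → ℤ, ℓ a = ∑ j, a j * v j := fun a => by
    conv_lhs => rw [← Finset.univ_sum_single a]
    rw [map_sum]
    refine Finset.sum_congr rfl fun j _ => ?_
    rw [show Pi.single j (a j) = a j • (Pi.single j 1 : n → ℤ) by simp [← Pi.single_smul], map_zsmul, smul_eq_mul]
  let P : Matrix n n K := (Pi.basisFun K n).toMatrix b
  let Q : Matrix n n K := b.toMatrix (Pi.basisFun K n)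
  have hPQ : P * Q = 1 := (Pi.basisFun K n).toMatrix_mul_toMatrix_flip b
  have hQP : Q * P = 1 := b.toMatrix_mul_toMatrix_flip (Pi.basisFun K n)
  have hP : ∀ i j, P i j = b j i := fun i j => by simp [P, Module.Basis.toMatrix_apply]
  refine ⟨P, Q, v, c, hPQ, hQP, by rw [← hℓv, hc], fun t f hf => ?_⟩
  -- translation by `g` and the vanishing ideal
  let R : MvPolynomial (n × n) K →ₐ[K] MvPolynomial (n × n) K :=
    aeval fun p => ∑ m, X (p.1, m) * C (g m p.2)
  have hRev : ∀ x p, evM x (R p) = evM (x * g) p := fun x p => by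
    show (evM x).comp R p = _
    congr 1
    refine MvPolynomial.algHom_ext fun q => ?_
    simp [R, evM, Matrix.mul_apply]
  let I : Submodule K (MvPolynomial (n × n) K) := ⨅ x : S, LinearMap.ker (evM (x : Matrix n n K)).toLinearMap
  have hImem : ∀ p, p ∈ I ↔ ∀ x ∈ S, evM x p = 0 := fun p => by simp [I, Submodule.mem_iInf]
  have hIR : ∀ p ∈ I, R p ∈ I := fun p hp => (hImem _).mpr fun x hx => by
    rw [hRev]
    exact (hImem p).mp hp _ (S.mul_mem hx hg)
  let L : n → (n → K) →ₗ[K] MvPolynomial (n × n) K := fun i => Fintype.linearCombination K fun m => X (i, m)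
  have hL : ∀ i w, R.toLinearMap (L i w) = L i (G w) := by
    intro i w
    simp only [L, Fintype.linearCombination_apply, map_sum, map_smul, AlgHom.toLinearMap_apply]
    simp only [R, aeval_X, G, Matrix.toLin'_apply, Matrix.mulVec, dotProduct, Finset.smul_sum, Finset.sum_smul]
    rw [Finset.sum_comm]
    refine Finset.sum_congr rfl fun m _ => Finset.sum_congr rfl fun p _ => ?_
    rw [MvPolynomial.smul_eq_C_mul, MvPolynomial.smul_eq_C_mul, map_mul]
    ring
  let Y : n × n → MvPolynomial (n × n) K := fun p => L p.1 (b p.2)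
  have hY : ∀ p, Y p ∈ GE R (μ p.2) := by
    intro p
    obtain ⟨N, hN⟩ := (Module.End.mem_maxGenEigenspace _ _ _).mp (hμ p.2)
    refine (mem_GE R).mpr ⟨N, ?_⟩
    have e : ∀ (M : ℕ) w, ((R.toLinearMap - μ p.2 • 1) ^ M) (L p.1 w) = L p.1 (((G - μ p.2 • 1) ^ M) w) := by
      intro M
      induction M with
      | zero => simp
      | succ M ih =>
        intro w
        rw [pow_succ, pow_succ, Module.End.mul_apply, Module.End.mul_apply, ← ih, LinearMap.sub_apply,
          LinearMap.sub_apply, LinearMap.smul_apply, LinearMap.smul_apply, Module.End.one_apply,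
          Module.End.one_apply, hL, map_sub (L p.1), map_smul (L p.1)]
    show ((R.toLinearMap - μ p.2 • 1) ^ N) (L p.1 (b p.2)) = 0
    rw [e, hN, map_zero]
  have hevY : ∀ x p, evM x (Y p) = (x * P) p.1 p.2 := by
    intro x p
    simp [Y, L, evM, Fintype.linearCombination_apply, Matrix.mul_apply, hP, mul_comm]
  -- change of variables
  let φ : MvPolynomial (n × n) K →ₐ[K] MvPolynomial (n × n) K :=
    aeval fun p => ∑ m, X (p.1, m) * C (Q m p.2)
  let ψ : MvPolynomial (n × n) K →ₐ[K] MvPolynomial (n × n) K := aeval Y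
  have hψφ : ψ (φ f) = f := by
    show (ψ.comp φ) f = AlgHom.id K _ f
    congr 1
    refine MvPolynomial.algHom_ext fun q => MvPolynomial.funext fun x => ?_
    let xm : Matrix n n K := Matrix.of fun i j => x (i, j)
    have hx : ∀ p, MvPolynomial.eval x p = evM xm p := fun p => rfl
    rw [hx, hx]
    simp only [ψ, φ, AlgHom.comp_apply, aeval_X, map_sum, map_mul, aeval_C, hevY, AlgHom.id_apply]
    rw [show evM xm (X q) = xm q.1 q.2 by simp [evM]]
    simp only [AlgHom.commutes, Algebra.algebraMap_self, RingHom.id_apply]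
    rw [← Matrix.mul_apply, Matrix.mul_assoc, hPQ, Matrix.mul_one]
  let a : (n × n →₀ ℕ) → n → ℤ := fun d => ∑ p, (d p : ℤ) • Pi.single p.2 1
  let cls : (n × n →₀ ℕ) → K := fun d => ∏ p, μ p.2 ^ d p
  let term : (n × n →₀ ℕ) → MvPolynomial (n × n) K := fun d => C ((φ f).coeff d) * ∏ p, Y p ^ d p
  have hterm : f = ∑ d ∈ (φ f).support, term d := by
    conv_lhs => rw [← hψφ, MvPolynomial.as_sum (φ f), map_sum]
    refine Finset.sum_congr rfl fun d _ => ?_
    simp only [ψ, term]
    rw [aeval_monomial, Finsupp.prod_fintype _ _ fun p => pow_zero _]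
    rfl
  have hcomp : ∀ ν, ∑ d ∈ (φ f).support with cls d = ν, term d ∈ I := by
    have hin := mem_of_sum_mem R hIR ((φ f).support.image cls)
      (fun ν => ∑ d ∈ (φ f).support with cls d = ν, term d)
      (fun ν _ => Submodule.sum_mem _ fun d hd => by
        simp only [term]
        rw [← MvPolynomial.smul_eq_C_mul]
        refine Submodule.smul_mem _ _ ?_
        rw [← (Finset.mem_filter.mp hd).2]
        exact GE_prod R _ _ _ fun p _ => GE_pow R (hY p) _)
      (by
        rw [Finset.sum_fiberwise_of_maps_to fun d hd => Finset.mem_image_of_mem cls hd, ← hterm]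
        exact (hImem f).mpr hf)
    intro ν
    by_cases hν : ν ∈ (φ f).support.image cls
    · exact hin ν hν
    · rw [Finset.sum_eq_zero fun d hd => absurd (Finset.mem_image.mpr ⟨d, (Finset.mem_filter.mp hd).1,
        (Finset.mem_filter.mp hd).2⟩) hν]
      exact I.zero_mem
  have hval : ∀ d, evM (P * Matrix.diagonal (fun j => ((t ^ v j : Kˣ) : K)) * Q) (term d) =
      ((t ^ ℓ (a d) : Kˣ) : K) * evM 1 (term d) := by
    intro d
    simp only [term, map_mul, map_prod, map_pow, hevY, Matrix.mul_assoc, hQP, Matrix.mul_one, Matrix.one_mul,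
      Matrix.mul_diagonal]
    have hC : ∀ x : Matrix n n K, evM x (C ((φ f).coeff d)) = (φ f).coeff d := fun x => by simp [evM]
    rw [hC, hC, mul_left_comm]
    congr 1
    simp only [mul_pow, Finset.prod_mul_distrib]
    rw [mul_comm]
    congr 1
    have e : ℓ (a d) = ∑ p, (d p : ℤ) * v p.2 := by
      simp only [a, map_sum, map_zsmul, smul_eq_mul, v]
    rw [e, zpow_finset_sum, Units.coe_prod]
    refine Finset.prod_congr rfl fun p _ => ?_
    rw [mul_comm, zpow_mul, zpow_natCast, Units.val_pow_eq_pow_val]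
  have hclass : ∀ d d', cls d = cls d' → ℓ (a d) = ℓ (a d') := by
    intro d d' hdd
    refine hℓker _ _ ?_
    have key : ∀ d, ((∏ j, μu j ^ a d j : Kˣ) : K) = cls d := by
      intro d
      have e : ∀ j, μu j ^ a d j = ∏ p : n × n, μu j ^ ((d p : ℤ) * (Pi.single p.2 1 : n → ℤ) j) := fun j => by
        rw [← zpow_finset_sum]
        simp [a, Finset.sum_apply]
      simp_rw [e]
      rw [Finset.prod_comm, Units.coe_prod]
      refine Finset.prod_congr rfl fun p _ => ?_
      rw [Finset.prod_eq_single p.2 (fun j _ hj => by rw [Pi.single_eq_of_ne hj, mul_zero, zpow_zero])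
        (fun h => absurd (Finset.mem_univ _) h), Pi.single_eq_same, mul_one, zpow_natCast, Units.val_pow_eq_pow_val]
      rfl
    exact Units.ext ((key d).trans (hdd.trans (key d').symm))
  rw [hterm, map_sum, ← Finset.sum_fiberwise_of_maps_to (g := cls) fun d hd => Finset.mem_image_of_mem cls hd]
  refine Finset.sum_eq_zero fun ν hν => ?_
  obtain ⟨d₀, hd₀, rfl⟩ := Finset.mem_image.mp hν
  rw [Finset.sum_congr rfl fun d hd => by rw [hval, hclass d d₀ (Finset.mem_filter.mp hd).2], ← Finset.mul_sum,
    ← map_sum, (hImem _).mp (hcomp (cls d₀)) 1 S.one_mem, mul_zero]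

end Mat

end Groth.Agent.Obs28.Unip
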